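import Cfsg.Agent.Lib.Helper44.H1.CK
import Cfsg.Agent.Lib.Helper44.H1.QB

/-! Farm H1: the closure certificate M2 (generated). -/

set_option autoImplicit false
set_option maxRecDepth 100000

namespace Cfsg.Agent.Lib.Helper44.H1

open QuadraticMap Matrix

def basM2 : Fin 6 → ((Fin 2 ⊕ Fin 2) ⊕ Fin 2 → ZMod 2) := ![Sum.elim (Sum.elim ![0,1] ![0,0]) ![1,0], Sum.elim (Sum.elim ![1,0] ![1,1]) ![0,0], Sum.elim (Sum.elim ![0,0] ![0,0]) ![0,1], Sum.elim (Sum.elim ![1,0] ![0,0]) ![1,0], Sum.elim (Sum.elim ![0,1] ![1,0]) ![1,1], Sum.elim (Sum.elim ![0,0] ![1,1]) ![0,1]]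

def duaM2 : Fin 6 → ((Fin 2 ⊕ Fin 2) ⊕ Fin 2 → ZMod 2) := ![Sum.elim (Sum.elim ![1,1] ![0,1]) ![0,0], Sum.elim (Sum.elim ![0,0] ![1,1]) ![0,1], Sum.elim (Sum.elim ![1,0] ![1,1]) ![1,1], Sum.elim (Sum.elim ![0,0] ![0,1]) ![0,1], Sum.elim (Sum.elim ![1,1] ![0,0]) ![0,0], Sum.elim (Sum.elim ![0,1] ![1,1]) ![0,1]]

def derM2 : List (((Fin 2 ⊕ Fin 2) ⊕ Fin 2 → ZMod 2) × ((Fin 2 ⊕ Fin 2) ⊕ Fin 2 → ZMod 2)) := [(Sum.elim (Sum.elim ![0,1] ![0,0]) ![1,0], Sum.elim (Sum.elim ![0,0] ![0,0]) ![0,1]),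
  (Sum.elim (Sum.elim ![0,1] ![0,0]) ![1,0], Sum.elim (Sum.elim ![0,1] ![1,0]) ![1,1]),
  (Sum.elim (Sum.elim ![1,0] ![1,1]) ![0,0], Sum.elim (Sum.elim ![0,1] ![0,0]) ![1,0]),
  (Sum.elim (Sum.elim ![1,0] ![1,1]) ![0,0], Sum.elim (Sum.elim ![1,0] ![0,0]) ![1,0]),
  (Sum.elim (Sum.elim ![1,0] ![1,1]) ![0,0], Sum.elim (Sum.elim ![0,0] ![1,1]) ![0,1]),
  (Sum.elim (Sum.elim ![1,0] ![1,1]) ![0,0], Sum.elim (Sum.elim ![0,1] ![0,0]) ![1,1]),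
  (Sum.elim (Sum.elim ![1,0] ![1,1]) ![0,0], Sum.elim (Sum.elim ![0,0] ![1,0]) ![0,1]),
  (Sum.elim (Sum.elim ![0,0] ![0,0]) ![0,1], Sum.elim (Sum.elim ![0,1] ![1,0]) ![1,1]),
  (Sum.elim (Sum.elim ![1,0] ![0,0]) ![1,0], Sum.elim (Sum.elim ![0,0] ![0,0]) ![0,1]),
  (Sum.elim (Sum.elim ![1,0] ![0,0]) ![1,0], Sum.elim (Sum.elim ![0,1] ![0,0]) ![1,1]),
  (Sum.elim (Sum.elim ![1,0] ![0,0]) ![1,0], Sum.elim (Sum.elim ![1,1] ![1,1]) ![1,0]),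
  (Sum.elim (Sum.elim ![1,0] ![0,0]) ![1,0], Sum.elim (Sum.elim ![1,0] ![0,0]) ![0,1]),
  (Sum.elim (Sum.elim ![1,0] ![0,0]) ![1,0], Sum.elim (Sum.elim ![1,0] ![0,1]) ![0,1]),
  (Sum.elim (Sum.elim ![1,0] ![0,0]) ![1,0], Sum.elim (Sum.elim ![0,1] ![1,0]) ![1,0]),
  (Sum.elim (Sum.elim ![0,0] ![1,1]) ![0,1], Sum.elim (Sum.elim ![1,1] ![1,1]) ![1,1]),
  (Sum.elim (Sum.elim ![0,0] ![1,1]) ![0,1], Sum.elim (Sum.elim ![0,0] ![0,1]) ![1,1]),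
  (Sum.elim (Sum.elim ![0,1] ![0,0]) ![1,0], Sum.elim (Sum.elim ![1,0] ![0,0]) ![0,1]),
  (Sum.elim (Sum.elim ![0,1] ![0,0]) ![1,0], Sum.elim (Sum.elim ![0,0] ![0,0]) ![1,1]),
  (Sum.elim (Sum.elim ![1,0] ![1,1]) ![0,0], Sum.elim (Sum.elim ![1,0] ![0,0]) ![1,1]),
  (Sum.elim (Sum.elim ![1,0] ![1,1]) ![0,0], Sum.elim (Sum.elim ![0,0] ![1,0]) ![1,0]),
  (Sum.elim (Sum.elim ![1,0] ![1,1]) ![0,0], Sum.elim (Sum.elim ![0,1] ![0,0]) ![0,1]),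
  (Sum.elim (Sum.elim ![0,0] ![0,0]) ![0,1], Sum.elim (Sum.elim ![0,0] ![0,0]) ![1,1]),
  (Sum.elim (Sum.elim ![0,0] ![0,0]) ![0,1], Sum.elim (Sum.elim ![0,0] ![0,1]) ![1,1]),
  (Sum.elim (Sum.elim ![1,0] ![0,0]) ![1,0], Sum.elim (Sum.elim ![0,0] ![1,0]) ![1,0]),
  (Sum.elim (Sum.elim ![0,1] ![1,0]) ![1,1], Sum.elim (Sum.elim ![0,0] ![1,1]) ![1,1]),
  (Sum.elim (Sum.elim ![0,0] ![1,0]) ![0,1], Sum.elim (Sum.elim ![1,1] ![1,1]) ![0,1]),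
  (Sum.elim (Sum.elim ![0,1] ![1,0]) ![1,0], Sum.elim (Sum.elim ![0,0] ![0,0]) ![1,1]),
  (Sum.elim (Sum.elim ![0,1] ![1,0]) ![1,0], Sum.elim (Sum.elim ![0,1] ![0,0]) ![0,1]),
  (Sum.elim (Sum.elim ![0,1] ![1,0]) ![1,0], Sum.elim (Sum.elim ![1,1] ![1,1]) ![0,1]),
  (Sum.elim (Sum.elim ![0,1] ![1,1]) ![0,0], Sum.elim (Sum.elim ![0,1] ![1,0]) ![0,1])]

theorem clo_M2 : Clo (minusQF 2 (ZMod 2) 1 1) :=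
  clo_of_cert _ qM2 bM2 hqM2 hbM2 basM2 duaM2 (by decide +kernel) derM2 (by decide +kernel)

end Cfsg.Agent.Lib.Helper44.H1
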