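import Cfsg.Agent.Lib.Helper44.H1.CK
import Cfsg.Agent.Lib.Helper44.H1.QB

/-! Farm H1: the closure certificate P4 (generated). -/

set_option autoImplicit false
set_option maxRecDepth 100000

namespace Cfsg.Agent.Lib.Helper44.H1

open QuadraticMap Matrix

def basP4 : Fin 8 → (Fin 4 ⊕ Fin 4 → ZMod 2) := ![Sum.elim ![0,1,0,0] ![1,1,0,0], Sum.elim ![0,1,0,0] ![0,1,0,1], Sum.elim ![0,0,0,1] ![0,1,1,1], Sum.elim ![1,0,1,1] ![1,0,1,1], Sum.elim ![1,1,0,0] ![1,0,1,1], Sum.elim ![0,1,0,0] ![0,1,0,0], Sum.elim ![1,0,0,0] ![1,0,1,0], Sum.elim ![1,1,1,1] ![0,1,0,0]]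

def duaP4 : Fin 8 → (Fin 4 ⊕ Fin 4 → ZMod 2) := ![Sum.elim ![1,0,1,0] ![0,0,1,1], Sum.elim ![0,1,1,1] ![1,1,0,1], Sum.elim ![0,0,0,0] ![0,0,1,1], Sum.elim ![0,0,1,0] ![1,0,0,1], Sum.elim ![0,1,0,0] ![0,1,1,1], Sum.elim ![1,0,1,1] ![0,1,1,0], Sum.elim ![0,1,0,0] ![1,1,0,1], Sum.elim ![0,0,1,0] ![1,0,1,1]]

def derP4 : List ((Fin 4 ⊕ Fin 4 → ZMod 2) × (Fin 4 ⊕ Fin 4 → ZMod 2)) := [(Sum.elim ![0,1,0,0] ![1,1,0,0], Sum.elim ![0,0,0,1] ![0,1,1,1]),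
  (Sum.elim ![0,1,0,0] ![1,1,0,0], Sum.elim ![1,0,1,1] ![1,0,1,1]),
  (Sum.elim ![0,1,0,0] ![1,1,0,0], Sum.elim ![1,0,0,0] ![1,0,1,0]),
  (Sum.elim ![0,1,0,0] ![0,1,0,1], Sum.elim ![1,0,1,1] ![1,0,1,1]),
  (Sum.elim ![0,1,0,0] ![0,1,0,1], Sum.elim ![1,1,0,0] ![1,0,1,1]),
  (Sum.elim ![0,1,0,0] ![0,1,0,1], Sum.elim ![1,1,1,1] ![0,1,1,1]),
  (Sum.elim ![1,0,1,1] ![1,0,1,1], Sum.elim ![0,0,0,1] ![0,1,1,1]),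
  (Sum.elim ![0,1,0,0] ![0,1,0,0], Sum.elim ![0,0,0,1] ![0,1,1,1]),
  (Sum.elim ![0,1,0,0] ![0,1,0,0], Sum.elim ![1,1,0,0] ![1,0,1,1]),
  (Sum.elim ![0,1,0,0] ![0,1,0,0], Sum.elim ![0,1,0,1] ![1,0,1,1]),
  (Sum.elim ![0,1,0,0] ![0,1,0,0], Sum.elim ![1,0,0,0] ![1,1,1,0]),
  (Sum.elim ![0,1,0,0] ![0,1,0,0], Sum.elim ![1,0,1,0] ![1,1,0,0]),
  (Sum.elim ![1,0,0,0] ![1,0,1,0], Sum.elim ![1,0,1,1] ![1,0,1,1]),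
  (Sum.elim ![1,0,0,0] ![1,0,1,0], Sum.elim ![0,1,0,1] ![1,0,1,1]),
  (Sum.elim ![1,0,0,0] ![1,0,1,0], Sum.elim ![1,1,1,1] ![1,1,1,0]),
  (Sum.elim ![1,0,0,0] ![1,0,1,0], Sum.elim ![0,0,0,1] ![1,1,1,1]),
  (Sum.elim ![1,1,1,1] ![0,1,0,0], Sum.elim ![0,1,0,0] ![1,1,0,0]),
  (Sum.elim ![1,1,1,1] ![0,1,0,0], Sum.elim ![0,1,0,0] ![0,1,0,1]),
  (Sum.elim ![1,1,1,1] ![0,1,0,0], Sum.elim ![0,0,0,1] ![0,1,1,1]),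
  (Sum.elim ![1,1,1,1] ![0,1,0,0], Sum.elim ![1,0,1,1] ![1,0,1,1]),
  (Sum.elim ![1,1,1,1] ![0,1,0,0], Sum.elim ![1,1,0,0] ![0,1,1,0]),
  (Sum.elim ![1,1,1,1] ![0,1,0,0], Sum.elim ![1,0,0,0] ![1,1,1,0]),
  (Sum.elim ![1,1,1,1] ![0,1,0,0], Sum.elim ![1,0,1,1] ![0,0,1,0]),
  (Sum.elim ![1,1,1,1] ![0,1,0,0], Sum.elim ![0,1,0,1] ![0,0,1,1]),
  (Sum.elim ![1,1,1,1] ![0,1,0,0], Sum.elim ![1,1,0,0] ![1,0,1,0]),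
  (Sum.elim ![1,1,1,1] ![0,1,0,0], Sum.elim ![0,0,1,1] ![0,0,0,1]),
  (Sum.elim ![0,1,0,0] ![1,1,0,0], Sum.elim ![1,0,1,1] ![0,0,0,1]),
  (Sum.elim ![0,1,0,0] ![1,1,0,0], Sum.elim ![0,1,1,1] ![1,0,1,0]),
  (Sum.elim ![0,1,0,0] ![1,1,0,0], Sum.elim ![0,0,1,1] ![1,1,1,0]),
  (Sum.elim ![0,1,0,0] ![1,1,0,0], Sum.elim ![1,1,0,0] ![0,1,0,1]),
  (Sum.elim ![0,1,0,0] ![0,1,0,1], Sum.elim ![1,1,1,0] ![0,0,1,1]),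
  (Sum.elim ![0,1,0,0] ![0,1,0,1], Sum.elim ![1,0,1,0] ![0,1,1,1]),
  (Sum.elim ![0,0,0,1] ![0,1,1,1], Sum.elim ![1,0,0,0] ![1,1,1,1]),
  (Sum.elim ![1,1,0,0] ![1,0,1,1], Sum.elim ![0,0,0,1] ![1,1,1,1]),
  (Sum.elim ![1,1,0,0] ![1,0,1,1], Sum.elim ![1,0,1,0] ![0,1,1,1]),
  (Sum.elim ![1,0,0,0] ![1,0,1,0], Sum.elim ![1,1,1,1] ![1,1,0,1]),
  (Sum.elim ![1,0,0,0] ![1,0,1,0], Sum.elim ![0,0,1,1] ![0,1,1,0]),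
  (Sum.elim ![1,1,0,0] ![0,1,1,0], Sum.elim ![0,0,1,1] ![1,1,1,0]),
  (Sum.elim ![1,1,1,1] ![1,1,1,0], Sum.elim ![0,0,0,1] ![0,1,1,1]),
  (Sum.elim ![1,1,1,1] ![1,1,1,0], Sum.elim ![1,1,0,0] ![1,0,1,1]),
  (Sum.elim ![1,1,1,1] ![1,1,1,0], Sum.elim ![0,1,0,1] ![0,0,1,1]),
  (Sum.elim ![1,1,1,1] ![1,1,1,0], Sum.elim ![1,0,0,0] ![1,1,1,1]),
  (Sum.elim ![1,1,1,1] ![1,1,1,0], Sum.elim ![1,1,0,1] ![0,0,0,1]),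
  (Sum.elim ![1,1,1,1] ![1,1,1,0], Sum.elim ![1,0,0,1] ![0,1,0,1]),
  (Sum.elim ![1,1,1,1] ![1,1,1,0], Sum.elim ![1,1,1,0] ![0,0,1,1]),
  (Sum.elim ![1,1,1,1] ![1,1,1,0], Sum.elim ![1,0,1,0] ![0,1,1,1]),
  (Sum.elim ![1,0,0,0] ![1,1,1,0], Sum.elim ![1,1,1,1] ![0,1,1,1]),
  (Sum.elim ![1,0,0,0] ![1,1,1,0], Sum.elim ![0,1,0,1] ![0,0,1,1]),
  (Sum.elim ![1,0,0,0] ![1,1,1,0], Sum.elim ![0,0,0,1] ![1,1,1,1]),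
  (Sum.elim ![1,0,0,0] ![1,1,1,0], Sum.elim ![0,0,1,1] ![0,0,0,1]),
  (Sum.elim ![1,0,0,0] ![1,1,1,0], Sum.elim ![1,0,0,1] ![0,1,0,1]),
  (Sum.elim ![1,0,0,0] ![1,1,1,0], Sum.elim ![1,1,1,0] ![0,0,1,1]),
  (Sum.elim ![1,0,0,0] ![1,1,1,0], Sum.elim ![1,0,1,0] ![1,1,0,1]),
  (Sum.elim ![1,0,0,0] ![1,1,1,0], Sum.elim ![0,1,1,0] ![1,0,1,1]),
  (Sum.elim ![1,0,0,0] ![1,1,1,0], Sum.elim ![0,0,0,1] ![1,1,0,1]),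
  (Sum.elim ![1,0,1,1] ![0,0,1,0], Sum.elim ![1,0,0,0] ![1,1,1,1]),
  (Sum.elim ![1,0,1,1] ![0,0,1,0], Sum.elim ![1,1,0,1] ![0,0,0,1]),
  (Sum.elim ![1,0,1,1] ![0,0,1,0], Sum.elim ![1,0,0,1] ![0,1,0,1]),
  (Sum.elim ![1,0,1,1] ![0,0,1,0], Sum.elim ![1,1,1,0] ![0,0,1,1]),
  (Sum.elim ![1,0,1,1] ![0,0,1,0], Sum.elim ![0,1,1,1] ![1,0,1,0]),
  (Sum.elim ![1,0,1,1] ![0,0,1,0], Sum.elim ![1,0,1,0] ![0,1,1,1]),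
  (Sum.elim ![1,0,1,1] ![0,0,1,0], Sum.elim ![0,0,1,1] ![1,1,1,0]),
  (Sum.elim ![1,0,1,1] ![0,0,1,0], Sum.elim ![0,0,0,1] ![1,0,1,1]),
  (Sum.elim ![1,0,1,1] ![0,0,1,0], Sum.elim ![0,1,1,0] ![1,1,0,1]),
  (Sum.elim ![1,0,1,0] ![1,1,0,0], Sum.elim ![1,0,0,0] ![1,0,1,0]),
  (Sum.elim ![1,0,1,0] ![1,1,0,0], Sum.elim ![1,1,0,0] ![0,1,1,0]),
  (Sum.elim ![1,0,1,0] ![1,1,0,0], Sum.elim ![1,0,0,0] ![1,1,1,0]),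
  (Sum.elim ![1,0,1,0] ![1,1,0,0], Sum.elim ![1,0,0,1] ![0,1,0,1]),
  (Sum.elim ![1,0,1,0] ![1,1,0,0], Sum.elim ![0,0,1,1] ![0,0,1,0]),
  (Sum.elim ![1,0,1,0] ![1,1,0,0], Sum.elim ![0,1,1,1] ![1,0,1,0]),
  (Sum.elim ![1,0,1,0] ![1,1,0,0], Sum.elim ![0,0,1,1] ![0,1,1,0]),
  (Sum.elim ![1,0,1,0] ![1,1,0,0], Sum.elim ![1,1,1,0] ![0,0,1,0]),
  (Sum.elim ![1,0,1,0] ![1,1,0,0], Sum.elim ![0,1,1,0] ![1,0,1,1]),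
  (Sum.elim ![1,0,1,0] ![1,1,0,0], Sum.elim ![1,0,1,1] ![1,1,1,1]),
  (Sum.elim ![1,0,1,0] ![1,1,0,0], Sum.elim ![0,0,1,0] ![0,1,1,1]),
  (Sum.elim ![0,1,0,1] ![0,0,1,1], Sum.elim ![0,0,1,0] ![1,1,1,1]),
  (Sum.elim ![0,1,0,1] ![0,0,1,1], Sum.elim ![1,0,0,0] ![1,0,1,1]),
  (Sum.elim ![1,1,0,0] ![1,0,1,0], Sum.elim ![0,0,1,1] ![0,0,0,1]),
  (Sum.elim ![1,1,0,0] ![1,0,1,0], Sum.elim ![1,0,0,1] ![1,1,1,0]),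
  (Sum.elim ![1,1,1,0] ![1,0,0,0], Sum.elim ![1,0,0,0] ![1,0,1,0]),
  (Sum.elim ![1,1,1,0] ![1,0,0,0], Sum.elim ![1,1,0,0] ![0,1,1,0]),
  (Sum.elim ![1,1,1,0] ![1,0,0,0], Sum.elim ![0,1,1,1] ![0,1,0,0]),
  (Sum.elim ![1,1,1,0] ![1,0,0,0], Sum.elim ![0,0,1,1] ![0,0,1,0]),
  (Sum.elim ![1,1,1,0] ![1,0,0,0], Sum.elim ![1,0,0,0] ![1,1,0,0]),
  (Sum.elim ![0,0,1,1] ![0,0,0,1], Sum.elim ![0,0,0,1] ![1,0,1,1]),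
  (Sum.elim ![0,0,1,1] ![0,0,0,1], Sum.elim ![0,1,1,0] ![1,1,0,1]),
  (Sum.elim ![0,0,1,1] ![0,0,0,1], Sum.elim ![1,0,0,1] ![0,0,1,1]),
  (Sum.elim ![0,0,1,1] ![0,0,0,1], Sum.elim ![1,1,0,1] ![1,1,1,1]),
  (Sum.elim ![1,1,0,1] ![0,0,0,1], Sum.elim ![1,0,0,0] ![1,1,1,1]),
  (Sum.elim ![1,1,0,1] ![0,0,0,1], Sum.elim ![0,0,1,1] ![0,1,0,1]),
  (Sum.elim ![1,1,0,1] ![0,0,0,1], Sum.elim ![0,1,0,1] ![1,0,0,1]),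
  (Sum.elim ![1,1,0,1] ![0,0,0,1], Sum.elim ![0,1,1,1] ![1,0,0,1]),
  (Sum.elim ![1,1,0,1] ![0,0,0,1], Sum.elim ![0,0,1,0] ![0,0,1,1]),
  (Sum.elim ![1,1,0,1] ![0,0,0,1], Sum.elim ![0,0,0,1] ![0,1,0,1]),
  (Sum.elim ![0,1,1,1] ![0,1,0,0], Sum.elim ![1,1,1,0] ![0,0,1,1]),
  (Sum.elim ![0,1,1,1] ![0,1,0,0], Sum.elim ![1,0,1,0] ![0,1,1,1]),
  (Sum.elim ![0,1,1,1] ![0,1,0,0], Sum.elim ![0,1,1,0] ![1,1,0,1]),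
  (Sum.elim ![0,1,1,1] ![0,1,0,0], Sum.elim ![0,0,1,0] ![0,0,1,0]),
  (Sum.elim ![0,1,1,1] ![0,1,0,0], Sum.elim ![0,0,1,1] ![1,0,0,1]),
  (Sum.elim ![0,1,1,1] ![0,1,0,0], Sum.elim ![0,1,0,0] ![1,1,1,0]),
  (Sum.elim ![1,0,0,1] ![0,1,0,1], Sum.elim ![0,0,1,0] ![0,0,1,1]),
  (Sum.elim ![1,0,1,1] ![1,0,0,0], Sum.elim ![0,0,1,1] ![0,1,0,1]),
  (Sum.elim ![1,0,1,1] ![1,0,0,0], Sum.elim ![0,1,1,1] ![0,0,0,1]),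
  (Sum.elim ![1,0,1,1] ![1,0,0,0], Sum.elim ![1,1,0,1] ![1,1,0,1]),
  (Sum.elim ![1,0,1,1] ![1,0,0,0], Sum.elim ![0,0,0,1] ![1,0,1,1]),
  (Sum.elim ![1,0,1,1] ![1,0,0,0], Sum.elim ![1,0,0,1] ![0,0,1,1]),
  (Sum.elim ![1,0,1,1] ![1,0,0,0], Sum.elim ![1,0,1,0] ![1,0,0,1]),
  (Sum.elim ![1,0,1,1] ![1,0,0,0], Sum.elim ![1,1,0,0] ![0,1,1,1]),
  (Sum.elim ![0,0,1,1] ![0,0,1,0], Sum.elim ![1,1,0,1] ![1,1,0,1]),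
  (Sum.elim ![0,1,1,1] ![1,0,1,0], Sum.elim ![0,0,1,1] ![1,1,0,1]),
  (Sum.elim ![0,1,1,1] ![1,0,1,0], Sum.elim ![1,0,0,0] ![1,0,1,1]),
  (Sum.elim ![0,0,1,1] ![1,1,1,0], Sum.elim ![1,0,0,0] ![1,0,1,1])]

theorem clo_P4 : Clo (plusQF 4 (ZMod 2)) :=
  clo_of_cert _ qP4 bP4 hqP4 hbP4 basP4 duaP4 (by decide +kernel) derP4 (by decide +kernel)

end Cfsg.Agent.Lib.Helper44.H1
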